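import Groth.Agent.GrpCI.Core
import Groth.Agent.SyntLib.AbsCI
import Groth.Agent.SyntLib.Field
import Groth.Agent.KoszulFib.Local

/-!
# Koszul regularity at a rational point from truncated Frobenius quotients
-/

set_option autoImplicit false
universe u

open IsLocalRing MvPolynomial RingTheory.Sequence

namespace Groth.Agent.GrpCI

/-- A minimal presentation compatible with the algebra structures. -/
theorem exists_minimal_alg (k : Type u) [Field k] : ∀ (N : ℕ) {R A : Type u} [CommRing R] [IsRegularLocalRing R]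
    [Algebra k R] [CommRing A] [Nontrivial A] [Algebra k A] (π : R →ₐ[k] A),
    (maximalIdeal R).spanFinrank ≤ N → Function.Surjective π →
    ∃ (R' : Type u) (_ : CommRing R') (_ : IsRegularLocalRing R') (_ : Algebra k R') (π' : R' →ₐ[k] A),
      Function.Surjective π' ∧ RingHom.ker π' ≤ maximalIdeal R' ^ 2 ∧
        (SyntLib.NumCI π.toRingHom ↔ SyntLib.NumCI π'.toRingHom) := by
  intro N
  induction N with
  | zero =>
    intro R A _ _ _ _ _ _ π hN hπ
    have hm : maximalIdeal R = ⊥ :=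
      (Submodule.spanFinrank_eq_zero_iff_eq_bot (IsNoetherian.noetherian _)).1 (Nat.le_zero.1 hN)
    exact ⟨R, inferInstance, inferInstance, inferInstance, π, hπ,
      ((le_maximalIdeal (RingHom.ker_ne_top π.toRingHom)).trans hm.le).trans bot_le, Iff.rfl⟩
  | succ N ih =>
    intro R A _ _ _ _ _ _ π hN hπ
    by_cases hle : RingHom.ker π ≤ maximalIdeal R ^ 2
    · exact ⟨R, inferInstance, inferInstance, inferInstance, π, hπ, hle, Iff.rfl⟩
    obtain ⟨x, hx, hx2⟩ := SetLike.not_le_iff_exists.mp hle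
    have hxm : x ∈ maximalIdeal R := le_maximalIdeal (RingHom.ker_ne_top π.toRingHom) hx
    obtain ⟨hT', -⟩ := SerreReg.isRegularLocalRing_quot hxm hx2
    have := hT'
    have hdrop := SerreReg.spanFinrank_quot_succ_le hxm hx2
    let π₁ : R ⧸ Ideal.span {x} →ₐ[k] A := Ideal.Quotient.liftₐ _ π fun y hy =>
      RingHom.mem_ker.mp ((Ideal.span_singleton_le_iff_mem _).mpr hx hy)
    have hπ₁ : Function.Surjective π₁ := fun a => by
      obtain ⟨y, rfl⟩ := hπ a
      exact ⟨Ideal.Quotient.mk _ y, rfl⟩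
    obtain ⟨R', i1, i2, i3, π', h1, h2, h3⟩ := ih π₁ (by omega) hπ₁
    refine ⟨R', i1, i2, i3, π', h1, h2, ?_⟩
    rw [← h3, SyntLib.numCI_comp_iff _ (Ideal.Quotient.mk (Ideal.span {x})) π₁.toRingHom le_rfl
      Ideal.Quotient.mk_surjective hπ₁]
    rfl

variable {k : Type u} [Field k]

/-- At a point whose local ring is a complete intersection, the kernel of a presentation is Koszul-regular. -/
theorem kAt_of_numCI {n : ℕ} {S : Type u} [CommRing S] [Algebra k S] (φ : MvPolynomial (Fin n) k →ₐ[k] S)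
    (hφ : Function.Surjective φ) (q : Ideal S) [q.IsPrime]
    (h : ∀ ψ : Localization.AtPrime (q.comap φ.toRingHom) →ₐ[k] Localization.AtPrime q, Function.Surjective ψ →
      SyntLib.NumCI ψ.toRingHom) :
    KoszulLib.KAt (RingHom.ker φ.toRingHom) (q.comap φ.toRingHom) := by
  obtain ⟨ψ, hψ, hker⟩ := SyntLib.exists_local_pres φ hφ q
  obtain ⟨rs, hrs, hI⟩ := (SyntLib.numCI_iff_regular ψ.toRingHom hψ).mp (h ψ hψ)
  rw [hker] at hI
  let P := MvPolynomial (Fin n) k
  let Q : PrimeSpectrum P := ⟨q.comap φ.toRingHom, inferInstance⟩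
  have hJ : (RingHom.ker φ.toRingHom).FG := IsNoetherian.noetherian _
  refine KoszulFib.kAt_of_fib (R := k) hJ Q (fun y hy => ?_) ?_
  · show φ y ∈ q
    rw [show φ y = 0 from hy]; exact zero_mem _
  obtain ⟨hsurj, hk⟩ := KoszulFib.locFT_surjective_and_ker k Q
  have hk0 : RingHom.ker (KoszulFib.locFT k Q) = ⊥ := by
    rw [hk, Ideal.eq_bot_of_prime (Q.asIdeal.comap (algebraMap k P)), Ideal.map_bot]
  let e : Localization.AtPrime Q.asIdeal →+* KoszulFib.FT k Q := KoszulFib.locFT k Q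
  letI : Algebra (Localization.AtPrime Q.asIdeal) (KoszulFib.FT k Q) := e.toAlgebra
  haveI : Module.Flat (Localization.AtPrime Q.asIdeal) (KoszulFib.FT k Q) :=
    RingHom.Flat.of_bijective (f := e) ⟨(RingHom.injective_iff_ker_eq_bot _).mpr hk0, hsurj⟩
  have hac : Wiebe.Acyclic (fun i : Fin rs.length => rs.get i) :=
    KoszulLib.acyclic_of_isWeaklyRegular' (by rw [List.ofFn_get]; exact hrs.toIsWeaklyRegular)
  refine ⟨rs.length, e ∘ fun i : Fin rs.length => rs.get i, ?_, KoszulLib.acyclic_baseChange (KoszulFib.FT k Q) hac⟩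
  show Ideal.map (e.comp (algebraMap P (Localization.AtPrime Q.asIdeal))) _ = _
  rw [← Ideal.map_map, hI, Ideal.ofList, Ideal.map_span]
  congr 1
  ext y
  constructor
  · rintro ⟨x, hx, rfl⟩
    obtain ⟨i, hi⟩ := List.mem_iff_get.mp hx
    exact ⟨i, by simp only [Function.comp_apply, hi]⟩
  · rintro ⟨i, rfl⟩
    exact ⟨rs.get i, List.get_mem rs i, rfl⟩

/-- Truncated Frobenius quotients give Koszul regularity of any presentation. -/
theorem kAt_of_truncated {p : ℕ} [Fact p.Prime] [CharP k p] {n : ℕ} {S : Type u} [CommRing S] [Algebra k S]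
    (φ : MvPolynomial (Fin n) k →ₐ[k] S) (hφ : Function.Surjective φ) (q : Ideal S) [q.IsPrime]
    (hT : ∀ N, 1 ≤ N → ∃ (r : ℕ) (e : Fin r → ℕ), (∀ i, 1 ≤ e i) ∧
      Nonempty ((Localization.AtPrime q ⧸ fpow p N (Localization.AtPrime q)) ≃ₐ[k] S16077.Trunc p k e)) :
    KoszulLib.KAt (RingHom.ker φ.toRingHom) (q.comap φ.toRingHom) := by
  refine kAt_of_numCI φ hφ q fun ψ hψ => ?_
  haveI : IsNoetherianRing (Localization.AtPrime q) :=
    isNoetherianRing_of_surjective _ _ ψ.toRingHom hψ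
  obtain ⟨R', i1, i2, i3, π', h1, h2, h3⟩ := exists_minimal_alg k _ ψ le_rfl hψ
  exact h3.mpr (numCI_of_truncated π' h1 h2 hT)

end Groth.Agent.GrpCI
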