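import Groth.Agent.GrpCI.Infinitesimal
import Groth.Agent.GrpCI.Alg
import Groth.Agent.KoszulFib.Scheme
import Groth.Agent.KoszulLib.SchPres
import Groth.Agent.SyntLib.CIMor
import Groth.Agent.GrpBasic.StalkUnit
import Groth.Agent.S8660

/-!
# Group schemes over a field are local complete intersections
-/

set_option autoImplicit false
set_option linter.style.haveILetI false
universe u

open CategoryTheory CategoryTheory.Limits MonoidalCategory CartesianMonoidalCategory MonObj GrpObj
open AlgebraicGeometry TensorProduct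

set_option backward.isDefEq.respectTransparency false

namespace Groth.Agent.GrpCI

/-- Locally of finite type over a locally noetherian base is locally of finite presentation. -/
theorem lfp_of_lft {X Y : Scheme.{u}} (f : X ⟶ Y) [IsLocallyNoetherian Y] [LocallyOfFiniteType f] :
    LocallyOfFinitePresentation f := by
  refine (HasRingHomProperty.iff_appLE (P := @LocallyOfFinitePresentation)).mpr fun V W e => ?_
  haveI : IsNoetherianRing Γ(Y, V) := IsLocallyNoetherian.component_noetherian V
  exact RingHom.FinitePresentation.of_finiteType.mp (f.finiteType_appLE V.2 W.2 e)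

/-- An isomorphism is a Koszul-regular immersion. -/
theorem isRegularImmersion_of_isIso {Z X : Scheme.{u}} (i : Z ⟶ X) [IsIso i] :
    RegImm.IsRegularImmersion .koszul i := by
  refine ⟨inferInstance, fun z => ?_⟩
  obtain ⟨U, hU, hz, -⟩ := exists_isAffineOpen_mem_and_subset (X := X) (x := i z) (U := ⊤) trivial
  refine ⟨⟨U, hU⟩, hz, inferInstance, [], ?_, ?_⟩
  · show LCI.IsKoszulRegularSeq Γ(X, U) []
    have h := (KoszulLib.isKoszulRegularSeq_iff_acyclic (f := (Fin.elim0 : Fin 0 → Γ(X, U)))).2 (KoszulLib.acyclic_nil _)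
    simpa using h
  · rw [Ideal.ofList_nil]
    exact (RingHom.injective_iff_ker_eq_bot _).1 (ConcreteCategory.bijective_of_isIso (i.app U)).1

/-- Koszul points are transported along isomorphisms over the base. -/
theorem isKoszulAt_of_isIso {X S : Scheme.{u}} (f : X ⟶ S) (τ : X ⟶ X) [IsIso τ] (hτ : τ ≫ f = f) (x : X)
    (h : Synt.IsKoszulAt f (τ x)) : Synt.IsKoszulAt f x := by
  obtain ⟨U, P, i, π, hxU, hft, hi, hπ, hfac⟩ := h
  haveI := hπ
  haveI := hft
  let U' : X.Opens := τ ⁻¹ᵁ U
  haveI : IsIso (τ ∣_ U) := inferInstance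
  have hloc : U'.ι ≫ f = (τ ∣_ U) ≫ U.ι ≫ f := by rw [morphismRestrict_ι_assoc, hτ]
  haveI := hi.1
  refine ⟨U', P, (τ ∣_ U) ≫ i, π, hxU, hloc ▸ inferInstance, ⟨inferInstance, fun z => ?_⟩, inferInstance,
    by rw [Category.assoc, hfac]; exact hloc.symm⟩
  exact (KoszulLib.isRegularImmersionAt_iso_comp (τ ∣_ U) i z).mpr (hi.2 _)

variable {K : Type u} [Field K] {G : Scheme.{u}} (f : G ⟶ Spec (.of K)) [GrpObj (Over.mk f)]

/-- At the unit of a group scheme over an algebraically closed field of positive characteristic. -/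
theorem isKoszulAt_unit [LocallyOfFiniteType f] [IsAlgClosed K] {p : ℕ} [Fact p.Prime] [CharP K p] :
    Synt.IsKoszulAt f (unitPt f) := by
  let x₀ := unitPt f
  obtain ⟨_, ⟨U, hU, rfl⟩, hxU, -⟩ :=
    G.isBasis_affineOpens.exists_subset_of_mem_open (Set.mem_univ x₀) isOpen_univ
  have hUT : U ≤ f ⁻¹ᵁ ⊤ := le_top
  let σ : CommRingCat.of K ⟶ Γ(G, U) := (Scheme.ΓSpecIso (CommRingCat.of K)).inv ≫ f.appLE ⊤ U hUT
  letI : Algebra K Γ(G, U) := σ.hom.toAlgebra
  let ic : CommRingCat.of K ⟶ G.presheaf.stalk x₀ := σ ≫ G.presheaf.germ U x₀ hxU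
  have hic : Spec.map ic = G.fromSpecStalk x₀ ≫ f := by
    rw [Spec.map_comp, ← IsAffineOpen.fromSpecStalk_eq_fromSpecStalk hU hxU, IsAffineOpen.fromSpecStalk,
      Category.assoc, ← IsAffineOpen.SpecMap_appLE_fromSpec f (isAffineOpen_top _) hU hUT, Spec.map_comp,
      IsAffineOpen.fromSpec_top]
    congr 2
    rw [Scheme.isoSpec_Spec_inv]
  letI : Algebra K (G.presheaf.stalk x₀) := ic.hom.toAlgebra
  haveI hfts : Algebra.FiniteType K Γ(G, U) := by
    have h1 := HasRingHomProperty.appLE @LocallyOfFiniteType f inferInstance ⟨⊤, isAffineOpen_top _⟩ ⟨U, hU⟩ hUT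
    have h2 : σ.hom.FiniteType := (RingHom.finiteType_respectsIso.cancel_left_isIso
      (Scheme.ΓSpecIso (CommRingCat.of K)).inv (f.appLE ⊤ U hUT)).mpr h1
    exact h2
  obtain ⟨n, π, hπ⟩ := Algebra.FiniteType.iff_quotient_mvPolynomial''.mp hfts
  letI : Algebra Γ(G, U) (G.presheaf.stalk x₀) := (G.presheaf.germ U x₀ hxU).hom.toAlgebra
  haveI : IsScalarTower K Γ(G, U) (G.presheaf.stalk x₀) := IsScalarTower.of_algebraMap_eq fun _ => rfl
  let q := (hU.primeIdealOf ⟨x₀, hxU⟩).asIdeal
  haveI : IsLocalization.AtPrime (G.presheaf.stalk x₀) q := hU.isLocalization_stalk ⟨x₀, hxU⟩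
  let e : G.presheaf.stalk x₀ ≃ₐ[K] Localization.AtPrime q :=
    (IsLocalization.algEquiv q.primeCompl (G.presheaf.stalk x₀) (Localization.AtPrime q)).restrictScalars K
  have hk := kAt_of_truncated (p := p) π hπ q fun N _ => by
    obtain ⟨r, ee, hee, ⟨φ⟩⟩ := exists_trunc f (p := p) ic hic N
    refine ⟨r, ee, hee, ⟨(Ideal.quotientEquivAlg _ _ e ?_).symm.trans φ⟩⟩
    show fpow p N _ = (fpow p N _).map e.toRingEquiv.toRingHom
    rw [fpow, fpow, Ideal.map_span, ← Set.image_comp]
    congr 1
    ext y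
    constructor
    · rintro ⟨x, hx, rfl⟩
      refine ⟨e.symm x, fun hu => hx ?_, ?_⟩
      · simpa using hu.map e
      · show e (e.symm x ^ p ^ N) = x ^ p ^ N
        rw [map_pow, AlgEquiv.apply_symm_apply]
    · rintro ⟨x, hx, rfl⟩
      exact ⟨e x, fun hu => hx (by simpa using hu.map e.symm), (map_pow e x _).symm⟩
  letI : Algebra Γ(Spec (CommRingCat.of K), ⊤) (MvPolynomial (Fin n) K) :=
    ((algebraMap K (MvPolynomial (Fin n) K)).comp (Scheme.ΓSpecIso (CommRingCat.of K)).hom.hom).toAlgebra
  haveI : Algebra.Smooth Γ(Spec (CommRingCat.of K), ⊤) (MvPolynomial (Fin n) K) := by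
    haveI : Algebra.Smooth K (MvPolynomial (Fin n) K) := ⟨inferInstance, inferInstance⟩
    exact RingHom.smooth_algebraMap.mp (RingHom.Smooth.stableUnderComposition _ _
      (RingHom.Smooth.of_bijective (Scheme.ΓSpecIso (CommRingCat.of K)).commRingCatIsoToRingEquiv.bijective)
      (RingHom.smooth_algebraMap.mpr inferInstance))
  have hπc : π.toRingHom.comp (algebraMap Γ(Spec (CommRingCat.of K), ⊤) (MvPolynomial (Fin n) K)) =
      (f.appLE ⊤ U hUT).hom := by
    ext a
    show π (algebraMap K _ ((Scheme.ΓSpecIso (CommRingCat.of K)).hom a)) = _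
    rw [π.commutes]
    show (f.appLE ⊤ U hUT) ((Scheme.ΓSpecIso (CommRingCat.of K)).inv ((Scheme.ΓSpecIso (CommRingCat.of K)).hom a)) = _
    rw [← CategoryTheory.comp_apply (Scheme.ΓSpecIso (CommRingCat.of K)).hom, Iso.hom_inv_id]
    rfl
  exact (KoszulLib.isKoszulAt_iff_kAt f ⟨⊤, isAffineOpen_top _⟩ ⟨U, hU⟩ hUT (MvPolynomial (Fin n) K) π.toRingHom
    hπ hπc x₀ hxU).mpr hk

/-- A group scheme over an algebraically closed field of positive characteristic is Koszul everywhere. -/
theorem isKoszulAt_algClosed [LocallyOfFiniteType f] [IsAlgClosed K] {p : ℕ} [Fact p.Prime] [CharP K p] (y : G) :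
    Synt.IsKoszulAt f y := by
  have := LocallyOfFiniteType.jacobsonSpace f
  have hunit := isKoszulAt_unit f (p := p)
  have hclosed : ∀ x ∈ closedPoints G, Synt.IsKoszulAt f x := by
    intro x hx
    let x' : 𝟙_ _ ⟶ Over.mk f := Over.homMk _ ((pointEquivClosedPoint f).symm ⟨x, hx⟩).2
    let α := GrpObj.mulRight (A := Over.mk f) x'
    have hα : η[Over.mk f] ≫ α.hom = x' := by
      have h1 : η[Over.mk f] = (1 : 𝟙_ _ ⟶ Over.mk f) := by simp [Hom.one_def]
      simp [α, comp_lift_assoc]
      rw [← Hom.mul_def, h1, _root_.one_mul]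
    have hα' : α.hom.left (unitPt f) = x := by
      have h := congr(($hα).left (IsLocalRing.closedPoint K))
      exact h.trans (pointOfClosedPoint_apply f x hx _)
    have : IsIso α.hom.left := inferInstanceAs (IsIso ((Over.forget _).map α.hom))
    let τ : G ⟶ G := inv α.hom.left
    refine isKoszulAt_of_isIso f τ ?_ x ?_
    · rw [IsIso.inv_comp_eq]; exact (Over.w α.hom).symm
    · have : τ x = unitPt f := by
        rw [← hα']
        exact congrArg (fun m : G ⟶ G => m (unitPt f)) (IsIso.hom_inv_id α.hom.left)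
      rw [this]
      exact hunit
  by_contra hy
  let Z : Set G := {x | Synt.IsKoszulAt f x}ᶜ
  have hZc : IsClosed Z := by
    rw [isClosed_compl_iff, isOpen_iff_forall_mem_open]
    rintro x ⟨O, P, i, π, hxO, h2⟩
    exact ⟨O, fun y hy => ⟨O, P, i, π, hy, h2⟩, O.isOpen, hxO⟩
  obtain ⟨x, hxZ, hxc⟩ := nonempty_inter_closedPoints (Z := Z) ⟨y, hy⟩ hZc.isLocallyClosed
  exact hxZ (hclosed x hxc)

/-- **Group schemes over a field are local complete intersections.** -/
theorem isKoszulAt_field [LocallyOfFiniteType f] (y : G) : Synt.IsKoszulAt f y := by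
  haveI : LocallyOfFinitePresentation f := lfp_of_lft f
  let K' := AlgebraicClosure K
  let h : Spec (CommRingCat.of K') ⟶ Spec (CommRingCat.of K) := Spec.map (CommRingCat.ofHom (algebraMap K K'))
  haveI : GrpObj (Over.mk (pullback.snd f h)) := Over.grpObjMkPullbackSnd
  have key : ∀ x' : (pullback f h : Scheme.{u}), Synt.IsKoszulAt (pullback.snd f h) x' := by
    obtain ⟨p, hp⟩ := CharP.exists K'
    rcases CharP.char_is_prime_or_zero K' p with hpp | h0
    · haveI := Fact.mk hpp
      exact fun x' => isKoszulAt_algClosed (pullback.snd f h) (p := p) x'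
    · subst h0
      haveI := CharP.charP_to_charZero K'
      haveI := Cartier.isReduced_algClosed (pullback.snd f h)
      haveI := GrpBasic.smooth_of_grpObj_algClosed (pullback.snd f h)
      intro x'
      haveI : IsIso (⊤ : (pullback f h : Scheme.{u}).Opens).ι :=
        inferInstanceAs (IsIso (Scheme.topIso (pullback f h : Scheme.{u})).hom)
      refine ⟨⊤, pullback f h, (⊤ : (pullback f h : Scheme.{u}).Opens).ι, pullback.snd f h, trivial, inferInstance,
        isRegularImmersion_of_isIso _, inferInstance, rfl⟩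
  haveI : Surjective h := ⟨fun x => ⟨IsLocalRing.closedPoint K', Subsingleton.elim _ _⟩⟩
  obtain ⟨y', hy'⟩ := (inferInstance : Surjective (pullback.fst f h)).surj y
  haveI : Flat f := inferInstance
  haveI : Flat (f ≫ 𝟙 (Spec (CommRingCat.of K))) := by rw [Category.comp_id]; infer_instance
  haveI : LocallyOfFinitePresentation (f ≫ 𝟙 (Spec (CommRingCat.of K))) := by rw [Category.comp_id]; infer_instance
  have hX : IsPullback (pullback.fst f h) (pullback.snd f h ≫ 𝟙 _) (f ≫ 𝟙 _) h := by
    rw [Category.comp_id, Category.comp_id]; exact IsPullback.of_hasPullback f h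
  rw [← hy']
  exact (KoszulFib.isKoszulAt_baseChange_iff f (𝟙 _) (IsPullback.of_vert_isIso ⟨by simp⟩) hX pullback.condition y').mp
    (key y')

/-- Flat group schemes of finite presentation are syntomic. -/
theorem synMor_grp {S : Scheme.{u}} {X : Scheme.{u}} (g : X ⟶ S) [GrpObj (Over.mk g)] [Flat g]
    [LocallyOfFinitePresentation g] : SyntLib.SynMor g := by
  refine SyntLib.synMor_of_fibres g fun s => ?_
  haveI : GrpObj (Over.mk (g.fiberToSpecResidueField s)) := Over.grpObjMkPullbackSnd
  haveI : LocallyOfFiniteType (g.fiberToSpecResidueField s) :=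
    MorphismProperty.pullback_snd g (S.fromSpecResidueField s) inferInstance
  exact SyntLib.synMor_of_flat_of_koszul _ fun y => isKoszulAt_field (g.fiberToSpecResidueField s) y

end Groth.Agent.GrpCI
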