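import Groth.Agent.SyntLib.NumCI
import Groth.Agent.S16077
import Mathlib

/-!
# Complete intersections from truncated Frobenius quotients

If for every `N` the quotient of a Noetherian local `k`-algebra `A` by the `p^N`-th powers of its maximal ideal is a
truncated polynomial algebra `k[X]/(X_i^{p^{e_i}})`, then `A` is a complete intersection.
-/

set_option autoImplicit false
universe u v

open IsLocalRing MvPolynomial

namespace Groth.Agent.GrpCI

variable {k : Type u} [Field k] {p : ℕ} [hp : Fact p.Prime] [CharP k p]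

/-- The ideal of `p^N`-th powers of the maximal ideal. -/
def fpow (p N : ℕ) (A : Type u) [CommRing A] [IsLocalRing A] : Ideal A :=
  Ideal.span ((fun x : A => x ^ p ^ N) '' (maximalIdeal A : Set A))

section Trunc

variable {r : ℕ} {e : Fin r → ℕ}

local notation "𝕋" => S16077.Trunc p k e

omit hp [CharP k p] in
theorem mk_X_pow (i : Fin r) : (Ideal.Quotient.mk _ (X i) : 𝕋) ^ p ^ e i = 0 := by
  rw [← map_pow]
  exact Ideal.Quotient.eq_zero_iff_mem.mpr (Ideal.subset_span ⟨i, rfl⟩)

omit hp [CharP k p] in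
theorem sub_C_mem (f : MvPolynomial (Fin r) k) : f - C (constantCoeff f) ∈ Ideal.span (Set.range X) := by
  induction f using MvPolynomial.induction_on with
  | C a => simp
  | add f g hf hg =>
    have : f + g - C (constantCoeff (f + g)) = (f - C (constantCoeff f)) + (g - C (constantCoeff g)) := by
      rw [map_add, map_add]; ring
    rw [this]; exact add_mem hf hg
  | mul_X f i _ =>
    simpa using Ideal.mul_mem_left _ f
      (Ideal.subset_span (s := Set.range (X : Fin r → MvPolynomial (Fin r) k)) ⟨i, rfl⟩)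

omit hp [CharP k p] in
theorem isNilpotent_of_mem {t : 𝕋} (ht : t ∈ Ideal.span (Set.range fun i => (Ideal.Quotient.mk _ (X i) : 𝕋))) :
    IsNilpotent t := by
  have : Ideal.span (Set.range fun i => (Ideal.Quotient.mk _ (X i) : 𝕋)) ≤ nilradical 𝕋 := by
    rw [Ideal.span_le]
    rintro _ ⟨i, rfl⟩
    exact mem_nilradical.mpr ⟨p ^ e i, mk_X_pow i⟩
  exact mem_nilradical.mp (this ht)

omit hp [CharP k p] in
/-- Elements of the truncated algebra are units or lie in the ideal of the variables. -/
theorem isUnit_or_mem (t : 𝕋) :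
    IsUnit t ∨ t ∈ Ideal.span (Set.range fun i => (Ideal.Quotient.mk _ (X i) : 𝕋)) := by
  obtain ⟨f, rfl⟩ := Ideal.Quotient.mk_surjective t
  have h1 : (Ideal.Quotient.mk _ f : 𝕋) - algebraMap k 𝕋 (constantCoeff f) ∈
      Ideal.span (Set.range fun i => (Ideal.Quotient.mk _ (X i) : 𝕋)) := by
    have h := Ideal.mem_map_of_mem (Ideal.Quotient.mk
      (Ideal.span (Set.range fun i : Fin r => (X i : MvPolynomial (Fin r) k) ^ p ^ e i))) (sub_C_mem f)
    rw [Ideal.map_span, ← Set.range_comp, map_sub] at h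
    exact h
  by_cases hc : constantCoeff f = 0
  · right; simpa [hc] using h1
  · left
    have := (isNilpotent_of_mem h1).isUnit_add_left_of_commute ((Ne.isUnit hc).map (algebraMap k 𝕋)) (Commute.all _ _)
    simpa using this

/-- A `p^n`-th power of an element of the ideal of the variables. -/
theorem pow_mem_span_pow [CharP 𝕋 p] (n : ℕ) {t : 𝕋}
    (ht : t ∈ Ideal.span (Set.range fun i => (Ideal.Quotient.mk _ (X i) : 𝕋))) :
    t ^ p ^ n ∈ Ideal.span ((fun i => (Ideal.Quotient.mk _ (X i) : 𝕋) ^ p ^ n) '' {i | n < e i}) := by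
  obtain ⟨c, rfl⟩ := Ideal.mem_span_range_iff_exists_fun.mp ht
  rw [sum_pow_char_pow p n]
  refine sum_mem fun i _ => ?_
  rw [mul_pow]
  refine Ideal.mul_mem_left _ _ ?_
  by_cases hi : n < e i
  · exact Ideal.subset_span ⟨i, hi, rfl⟩
  · rw [show n = e i + (n - e i) by omega, pow_add, pow_mul, mk_X_pow,
      zero_pow (pow_pos hp.out.pos _).ne']
    exact zero_mem _

end Trunc

section

variable {A : Type u} [CommRing A] [IsLocalRing A] [Algebra k A]

omit [Field k] [CharP k p] [Algebra k A] in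
theorem fpow_le (N : ℕ) : fpow p N A ≤ maximalIdeal A := by
  rw [fpow, Ideal.span_le]
  rintro _ ⟨x, hx, rfl⟩
  exact Ideal.pow_mem_of_mem _ hx _ (pow_pos hp.out.pos _)

omit [Field k] [CharP k p] [Algebra k A] in
theorem fpow_mono {n N : ℕ} (h : n ≤ N) : fpow p N A ≤ fpow p n A := by
  rw [fpow, Ideal.span_le]
  rintro _ ⟨x, hx, rfl⟩
  refine Ideal.subset_span ⟨x ^ p ^ (N - n), Ideal.pow_mem_of_mem _ hx _ (pow_pos hp.out.pos _), ?_⟩
  show (x ^ p ^ (N - n)) ^ p ^ n = x ^ p ^ N
  rw [← pow_mul, ← pow_add, Nat.sub_add_cancel h]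

theorem finrank_trunc {r : ℕ} (e : Fin r → ℕ) : Module.finrank k (S16077.Trunc p k e) = p ^ ∑ i, e i := by
  have h := S16077.finrank_span_pow p k e 0
  simp only [Nat.sub_zero] at h
  rw [← h, eq_comm, show (Set.range fun a : S16077.Trunc p k e => a ^ p ^ 0) = Set.univ from
    Set.eq_univ_of_forall fun a => ⟨a, by simp⟩, Submodule.span_univ, finrank_top]

variable {r : ℕ} {e : Fin r → ℕ}

omit [CharP k p] in
/-- The maximal ideal maps into the ideal of the variables. -/
theorem map_mem_vars (ψ : A →ₐ[k] S16077.Trunc p k e) (hψ : Function.Surjective ψ)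
    [Nontrivial (S16077.Trunc p k e)] {x : A}
    (hx : x ∈ maximalIdeal A) : ψ x ∈ Ideal.span (Set.range fun i => (Ideal.Quotient.mk _ (X i) : S16077.Trunc p k e)) := by
  refine (isUnit_or_mem (ψ x)).resolve_left fun hu => hx ?_
  haveI : IsLocalHom (ψ : A →+* S16077.Trunc p k e) := IsLocalHom.of_surjective _ hψ
  exact isUnit_of_map_unit (ψ : A →+* S16077.Trunc p k e) x hu

omit [CharP k p] in
/-- Lifts of the variables lie in the maximal ideal. -/
theorem lift_mem_maximal (ψ : A →ₐ[k] S16077.Trunc p k e) [Nontrivial (S16077.Trunc p k e)] {x : A} {i : Fin r}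
    (hx : ψ x = Ideal.Quotient.mk _ (X i)) : x ∈ maximalIdeal A := fun hu => by
  have h : IsNilpotent (ψ x) := hx ▸ ⟨p ^ e i, mk_X_pow i⟩
  exact not_isUnit_zero (M₀ := S16077.Trunc p k e) (by
    obtain ⟨n, hn⟩ := h
    exact hn ▸ (hu.map ψ).pow n)

/-- The finer truncation. -/
theorem finrank_quot (ψ : A →ₐ[k] S16077.Trunc p k e) (hψ : Function.Surjective ψ) [Nontrivial (S16077.Trunc p k e)]
    {n N : ℕ} (hn : n ≤ N) (hker : RingHom.ker ψ = fpow p N A) :
    Module.finrank k (A ⧸ fpow p n A) = p ^ ∑ i, min (e i) n := by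
  let e' : Fin r → ℕ := fun i => min (e i) n
  let τ : S16077.Trunc p k e →ₐ[k] S16077.Trunc p k e' :=
    Ideal.Quotient.liftₐ _ (Ideal.Quotient.mkₐ k _) (fun a ha => by
      refine Ideal.Quotient.eq_zero_iff_mem.mpr ((Ideal.span_le.mpr ?_) ha)
      rintro _ ⟨i, rfl⟩
      show (X i : MvPolynomial (Fin r) k) ^ p ^ e i ∈ _
      rw [show e i = e' i + (e i - e' i) by simp only [e']; omega, pow_add, pow_mul]
      refine Ideal.pow_mem_of_mem _ ?_ _ (pow_pos hp.out.pos _)
      exact Ideal.subset_span ⟨i, rfl⟩)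
  have hτ : ∀ f, τ (Ideal.Quotient.mk _ f) = Ideal.Quotient.mk _ f := fun f => rfl
  haveI : CharP (S16077.Trunc p k e) p :=
    charP_of_injective_algebraMap (algebraMap k (S16077.Trunc p k e)).injective p
  have hsurj : Function.Surjective (τ.comp ψ) := by
    refine fun t => ?_
    obtain ⟨f, rfl⟩ := Ideal.Quotient.mk_surjective t
    obtain ⟨a, ha⟩ := hψ (Ideal.Quotient.mk _ f)
    exact ⟨a, by rw [AlgHom.comp_apply, ha, hτ]⟩
  have hk : RingHom.ker (τ.comp ψ) = fpow p n A := by
    refine le_antisymm (fun a ha => ?_) ?_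
    · obtain ⟨f, hf⟩ := Ideal.Quotient.mk_surjective (ψ a)
      have hf' : f ∈ Ideal.span (Set.range fun i => (X i : MvPolynomial (Fin r) k) ^ p ^ e' i) := by
        rw [← Ideal.Quotient.eq_zero_iff_mem, ← hτ f, hf]
        exact ha
      have hle : Ideal.span (Set.range fun i => (X i : MvPolynomial (Fin r) k) ^ p ^ e' i) ≤
          (((fpow p n A).map ψ).comap (Ideal.Quotient.mk _)) := by
        rw [Ideal.span_le]
        rintro _ ⟨i, rfl⟩
        show (Ideal.Quotient.mk _) ((X i) ^ p ^ e' i) ∈ (fpow p n A).map ψ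
        rw [map_pow]
        rcases le_total (e i) n with h | h
        · rw [show e' i = e i from min_eq_left h, mk_X_pow]; exact zero_mem _
        · rw [show e' i = n from min_eq_right h]
          obtain ⟨w, hw⟩ := hψ (Ideal.Quotient.mk _ (X i))
          rw [← hw, ← map_pow]
          exact Ideal.mem_map_of_mem _ (Ideal.subset_span ⟨w, lift_mem_maximal ψ hw, rfl⟩)
      have h1 : ψ a ∈ (fpow p n A).map ψ := hf ▸ hle hf'
      obtain ⟨b, hb, hba⟩ := (Ideal.mem_map_iff_of_surjective ψ hψ).mp h1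
      have : a - b ∈ fpow p N A := by rw [← hker, RingHom.mem_ker, map_sub, hba, sub_self]
      simpa using add_mem hb (fpow_mono hn this)
    · refine Ideal.span_le.mpr ?_
      rintro _ ⟨x, hx, rfl⟩
      show τ (ψ (x ^ p ^ n)) = 0
      rw [map_pow ψ]
      have h := Ideal.mem_map_of_mem τ (pow_mem_span_pow n (map_mem_vars ψ hψ hx))
      rw [Ideal.map_span] at h
      refine (Ideal.mem_bot.mp ?_)
      refine (Ideal.span_le.mpr ?_) h
      rintro _ ⟨_, ⟨i, hi, rfl⟩, rfl⟩
      show τ _ ∈ (⊥ : Ideal _)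
      rw [Ideal.mem_bot, map_pow, hτ, show n = e' i + (n - e' i) by simp only [e']; omega, pow_add, pow_mul,
        mk_X_pow (e := e') i, zero_pow (pow_pos hp.out.pos _).ne']
  rw [← finrank_trunc (k := k) e']
  exact ((Ideal.quotientEquivAlgOfEq k hk.symm).trans
    (Ideal.quotientKerAlgEquivOfSurjective hsurj)).toLinearEquiv.finrank_eq

variable [IsNoetherianRing A]

/-- The exponents which are not bounded bound the dimension. -/
theorem dim_le (ψ : A →ₐ[k] S16077.Trunc p k e) (hψ : Function.Surjective ψ) [Nontrivial (S16077.Trunc p k e)]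
    {E N : ℕ} (hEN : E < N) (hker : RingHom.ker ψ = fpow p N A) :
    ringKrullDim A ≤ ((Finset.univ.filter fun i => E < e i).card : WithBot ℕ∞) := by
  classical
  haveI : CharP (S16077.Trunc p k e) p :=
    charP_of_injective_algebraMap (algebraMap k (S16077.Trunc p k e)).injective p
  choose z hz using fun i => hψ (Ideal.Quotient.mk _ (X i))
  let Zs : Finset A := (Finset.univ.filter fun i => E < e i).image z
  have hZm : Ideal.span (Zs : Set A) ≤ maximalIdeal A := by
    rw [Ideal.span_le]
    intro x hx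
    obtain ⟨i, -, rfl⟩ := Finset.mem_image.mp hx
    exact lift_mem_maximal ψ (hz i)
  have key : fpow p E A ≤ Ideal.span (Zs : Set A) ⊔ maximalIdeal A • fpow p E A := by
    refine Ideal.span_le.mpr ?_
    rintro _ ⟨x, hx, rfl⟩
    have h1 : ψ (x ^ p ^ E) ∈ (Ideal.span (Zs : Set A)).map ψ := by
      rw [map_pow]
      refine (Ideal.span_le.mpr ?_) (pow_mem_span_pow E (map_mem_vars ψ hψ hx))
      rintro _ ⟨i, hi, rfl⟩
      show (Ideal.Quotient.mk _ (X i) : S16077.Trunc p k e) ^ p ^ E ∈ _
      rw [← hz i]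
      refine Ideal.pow_mem_of_mem _ (Ideal.mem_map_of_mem _ (Ideal.subset_span ?_)) _ (pow_pos hp.out.pos _)
      exact Finset.mem_image.mpr ⟨i, Finset.mem_filter.mpr ⟨Finset.mem_univ _, hi⟩, rfl⟩
    obtain ⟨b, hb, hba⟩ := (Ideal.mem_map_iff_of_surjective ψ hψ).mp h1
    have h2 : x ^ p ^ E - b ∈ fpow p N A := by rw [← hker, RingHom.mem_ker, map_sub, hba, sub_self]
    have h3 : fpow p N A ≤ maximalIdeal A • fpow p E A := by
      refine Ideal.span_le.mpr ?_
      rintro _ ⟨y, hy, rfl⟩
      have h4 : p ^ N = p ^ E * (p ^ (N - E) - 1) + p ^ E := by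
        rw [← Nat.mul_succ, Nat.succ_eq_add_one, Nat.sub_add_cancel (Nat.one_le_pow _ _ hp.out.pos), ← pow_add,
          Nat.add_sub_cancel' hEN.le]
      show y ^ p ^ N ∈ _
      rw [h4, pow_add, smul_eq_mul]
      refine Ideal.mul_mem_mul (Ideal.pow_mem_of_mem _ hy _ (Nat.mul_pos (pow_pos hp.out.pos _) ?_))
        (Ideal.subset_span ⟨y, hy, rfl⟩)
      have : 1 < p ^ (N - E) := Nat.one_lt_pow (by omega) hp.out.one_lt
      omega
    have := Submodule.add_mem_sup hb (h3 h2)
    simpa using this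
  have h5 : fpow p E A ≤ Ideal.span (Zs : Set A) :=
    Submodule.le_of_le_smul_of_le_jacobson_bot (IsNoetherian.noetherian _)
      (jacobson_eq_maximalIdeal (⊥ : Ideal A) bot_ne_top).ge key
  have hmin : maximalIdeal A ∈ (Ideal.span (Zs : Set A)).minimalPrimes := by
    refine ⟨⟨inferInstance, hZm⟩, ?_⟩
    rintro P ⟨hP, hle⟩ _ x hx
    exact hP.mem_of_pow_mem _ (hle (h5 (Ideal.subset_span ⟨x, hx, rfl⟩)))
  rw [← IsLocalRing.maximalIdeal_height_eq_ringKrullDim]
  refine le_trans (WithBot.coe_le_coe.mpr (Ideal.height_le_card_of_mem_minimalPrimes_span_finset hmin)) ?_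
  exact_mod_cast Finset.card_image_le

end

/-- Step: sums of minima. -/
theorem sum_min_succ {r : ℕ} (e : Fin r → ℕ) (n : ℕ) :
    ∑ i, min (e i) (n + 1) = ∑ i, min (e i) n + (Finset.univ.filter fun i => n < e i).card := by
  classical
  rw [Finset.card_filter, ← Finset.sum_add_distrib]
  exact Finset.sum_congr rfl fun i _ => by split_ifs <;> omega

section

variable {R : Type u} [CommRing R] [IsRegularLocalRing R] [Algebra k R] {r : ℕ} {e : Fin r → ℕ}

/-- The number of variables is at most the embedding dimension. -/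
theorem le_spanFinrank (φ : R →ₐ[k] S16077.Trunc p k e) (hφ : Function.Surjective φ) (he : ∀ i, 1 ≤ e i)
    [Nontrivial (S16077.Trunc p k e)] :
    r ≤ (maximalIdeal R).spanFinrank := by
  classical
  let lam : MvPolynomial (Fin r) k →ₗ[k] (Fin r → k) :=
    LinearMap.pi fun i => (MvPolynomial.aeval (0 : Fin r → k)).toLinearMap.comp (pderiv i).toLinearMap
  have hev : ∀ f, MvPolynomial.aeval (0 : Fin r → k) f = constantCoeff f := fun f => by
    rw [show (0 : Fin r → k) = fun _ => 0 from rfl, MvPolynomial.aeval_zero']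
    simp
  have hmul : ∀ f g, constantCoeff g = 0 → lam (f * g) = constantCoeff f • lam g := fun f g hg => by
    funext i
    simp [lam, pderiv_mul, hev, hg]
  let J := Ideal.span (Set.range fun i : Fin r => (X i : MvPolynomial (Fin r) k) ^ p ^ e i)
  have hJ : ∀ f ∈ J, lam f = 0 := by
    intro f hf
    induction hf using Submodule.span_induction with
    | mem x hx =>
      obtain ⟨i, rfl⟩ := hx
      show lam ((X i : MvPolynomial (Fin r) k) ^ p ^ e i) = 0
      have h2 : 2 ≤ p ^ e i := le_trans hp.out.two_le (Nat.le_self_pow (Nat.one_le_iff_ne_zero.mp (he i)) p)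
      rw [show p ^ e i = (p ^ e i - 1) + 1 by omega, pow_succ', hmul _ _ (by
        rw [map_pow, constantCoeff_X, zero_pow (by omega)]), constantCoeff_X, zero_smul]
    | zero => simp
    | add x y _ _ hx hy => rw [map_add, hx, hy, add_zero]
    | smul a x hx' hx =>
      have h0 : constantCoeff x = 0 := by
        refine (Ideal.span_le (I := RingHom.ker (constantCoeff : MvPolynomial (Fin r) k →+* k))).mpr ?_ hx'
        rintro _ ⟨i, rfl⟩
        rw [SetLike.mem_coe, RingHom.mem_ker, map_pow, constantCoeff_X, zero_pow (pow_pos hp.out.pos _).ne']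
      rw [smul_eq_mul, hmul _ _ h0, hx, smul_zero]
  obtain ⟨w, hwcard, hw⟩ :=
    Submodule.FG.exists_span_finset_card_eq_spanFinrank (IsNoetherian.noetherian (maximalIdeal R))
  choose f hf using fun x : R => Ideal.Quotient.mk_surjective (φ x)
  have hwm : ∀ x ∈ w, constantCoeff (f x) = 0 := by
    intro x hx
    by_contra hne
    have hxm : x ∈ maximalIdeal R := hw ▸ Submodule.subset_span hx
    haveI : IsLocalHom (φ : R →+* S16077.Trunc p k e) := IsLocalHom.of_surjective _ hφ
    refine hxm (isUnit_of_map_unit (φ : R →+* S16077.Trunc p k e) x ?_)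
    show IsUnit (φ x)
    rw [← hf x]
    refine (isUnit_or_mem _).resolve_right fun h => ?_
    have h' : Ideal.Quotient.mk J (f x) ∈ Ideal.span (Set.range fun i => (Ideal.Quotient.mk J (X i))) := h
    rw [show (Set.range fun i => (Ideal.Quotient.mk J (X i))) = Ideal.Quotient.mk J '' Set.range X from
      Set.range_comp _ _, ← Ideal.map_span, ← Ideal.mem_comap,
      Ideal.comap_map_of_surjective _ Ideal.Quotient.mk_surjective, ← RingHom.ker_eq_comap_bot, Ideal.mk_ker] at h'
    refine hne ((sup_le ?_ ?_ : _ ≤ RingHom.ker (constantCoeff : MvPolynomial (Fin r) k →+* k)) h')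
    · rw [Ideal.span_le]; rintro _ ⟨i, rfl⟩; simp
    · rw [Ideal.span_le]
      rintro _ ⟨i, rfl⟩
      rw [SetLike.mem_coe, RingHom.mem_ker, map_pow, constantCoeff_X, zero_pow (pow_pos hp.out.pos _).ne']
  have hspan : (⊤ : Submodule k (Fin r → k)) ≤ Submodule.span k ((fun x => lam (f x)) '' w) := by
    rintro v -
    rw [pi_eq_sum_univ v]
    refine sum_mem fun i _ => Submodule.smul_mem _ _ ?_
    obtain ⟨x, hx⟩ := hφ (Ideal.Quotient.mk _ (X i))
    have hxm : x ∈ Submodule.span R w := by rw [hw]; exact lift_mem_maximal φ hx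
    have h1 : ∀ y ∈ Submodule.span R w, ∀ g, Ideal.Quotient.mk J g = φ y →
        constantCoeff g = 0 ∧ lam g ∈ Submodule.span k ((fun x => lam (f x)) '' w) := by
      intro y hy
      have aux : ∀ g g', Ideal.Quotient.mk J g = Ideal.Quotient.mk J g' →
          constantCoeff g = constantCoeff g' ∧ lam g = lam g' := fun g g' h => by
        rw [Ideal.Quotient.eq] at h
        refine ⟨?_, sub_eq_zero.mp (by rw [← map_sub]; exact hJ _ h)⟩
        rw [← sub_eq_zero, ← map_sub]
        refine (Ideal.span_le (I := RingHom.ker (constantCoeff : MvPolynomial (Fin r) k →+* k))).mpr ?_ h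
        rintro _ ⟨i, rfl⟩
        rw [SetLike.mem_coe, RingHom.mem_ker, map_pow, constantCoeff_X, zero_pow (pow_pos hp.out.pos _).ne']
      induction hy using Submodule.span_induction with
      | mem y hy =>
        intro g hg
        obtain ⟨a, b⟩ := aux g (f y) (hg.trans (hf y).symm)
        exact ⟨a.trans (hwm y hy), b ▸ Submodule.subset_span ⟨y, hy, rfl⟩⟩
      | zero =>
        intro g hg
        obtain ⟨a, b⟩ := aux g 0 (by rw [hg]; simp)
        exact ⟨by simp [a], by simp [b]⟩
      | add y y' _ _ h h' =>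
        intro g hg
        obtain ⟨g1, hg1⟩ := Ideal.Quotient.mk_surjective (φ y)
        obtain ⟨g2, hg2⟩ := Ideal.Quotient.mk_surjective (φ y')
        obtain ⟨a, b⟩ := aux g (g1 + g2) (by rw [hg, map_add, map_add, hg1, hg2])
        obtain ⟨c1, d1⟩ := h g1 hg1
        obtain ⟨c2, d2⟩ := h' g2 hg2
        exact ⟨by simp [a, c1, c2], by rw [b, map_add]; exact add_mem d1 d2⟩
      | smul c y _ h =>
        intro g hg
        obtain ⟨g1, hg1⟩ := Ideal.Quotient.mk_surjective (φ y)
        obtain ⟨g2, hg2⟩ := Ideal.Quotient.mk_surjective (φ c)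
        obtain ⟨a, b⟩ := aux g (g2 * g1) (by rw [hg, map_mul, smul_eq_mul, map_mul, hg1, hg2])
        obtain ⟨c1, d1⟩ := h g1 hg1
        exact ⟨by simp [a, c1], by rw [b, hmul _ _ c1]; exact Submodule.smul_mem _ _ d1⟩
    have h2 := (h1 x hxm (X i) hx.symm).2
    convert h2 using 1
    funext j
    simp [lam, hev, pderiv_X, Pi.single_apply, eq_comm]
  have h3 : Module.finrank k (Fin r → k) ≤ (w.image fun x => lam (f x)).card := by
    rw [← finrank_top, ← top_le_iff.mp hspan, ← Finset.coe_image]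
    exact finrank_span_finset_le_card _
  rw [Module.finrank_fin_fun] at h3
  rw [← hwcard]
  exact h3.trans Finset.card_image_le

end

/-- A local algebra whose Frobenius quotients are truncated polynomial algebras is a complete intersection. -/
theorem numCI_of_truncated {R A : Type u} [CommRing R] [IsRegularLocalRing R] [Algebra k R] [CommRing A]
    [IsLocalRing A] [IsNoetherianRing A] [Algebra k A] (π : R →ₐ[k] A) (hπ : Function.Surjective π)
    (hker : RingHom.ker π ≤ maximalIdeal R ^ 2)
    (hT : ∀ N, 1 ≤ N → ∃ (r : ℕ) (e : Fin r → ℕ), (∀ i, 1 ≤ e i) ∧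
      Nonempty ((A ⧸ fpow p N A) ≃ₐ[k] S16077.Trunc p k e)) :
    SyntLib.NumCI π.toRingHom := by
  classical
  choose r e he iso using hT
  have hne : ∀ N (hN : 1 ≤ N), Nontrivial (S16077.Trunc p k (e N hN)) := fun N hN => by
    haveI : Nontrivial (A ⧸ fpow p N A) :=
      Ideal.Quotient.nontrivial_iff.2 (ne_top_of_le_ne_top (IsLocalRing.maximalIdeal.isMaximal A).ne_top (fpow_le N))
    exact (iso N hN).some.symm.toEquiv.nontrivial
  let ψ : ∀ N (hN : 1 ≤ N), A →ₐ[k] S16077.Trunc p k (e N hN) :=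
    fun N hN => (iso N hN).some.toAlgHom.comp (Ideal.Quotient.mkₐ k _)
  have hψ : ∀ N hN, Function.Surjective (ψ N hN) :=
    fun N hN => (iso N hN).some.surjective.comp Ideal.Quotient.mk_surjective
  have hψk : ∀ N hN, RingHom.ker (ψ N hN) = fpow p N A := fun N hN => by
    ext x
    simp [ψ, RingHom.mem_ker, Ideal.Quotient.eq_zero_iff_mem]
  -- the increments
  let L : ℕ → ℕ := fun n => ∑ i, min (e (n + 1) (by omega) i) n
  have hL : ∀ N (hN : 1 ≤ N) n, n ≤ N → ∑ i, min (e N hN i) n = L n := fun N hN n hn => by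
    haveI := hne N hN
    haveI := hne (n + 1) (by omega)
    refine Nat.pow_right_injective hp.out.two_le ?_
    show p ^ _ = p ^ _
    rw [← finrank_quot (ψ N hN) (hψ N hN) hn (hψk N hN),
      ← finrank_quot (ψ (n + 1) _) (hψ _ _) (Nat.le_succ n) (hψk _ _)]
  let Δ : ℕ → ℕ := fun n => L (n + 1) - L n
  have hΔ : ∀ N (hN : 1 ≤ N) n, n < N → (Finset.univ.filter fun i => n < e N hN i).card = Δ n := fun N hN n hn => by
    have := sum_min_succ (e N hN) n
    rw [hL N hN (n + 1) hn, hL N hN n hn.le] at this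
    simp only [Δ]; omega
  have hanti : ∀ n n', n ≤ n' → Δ n' ≤ Δ n := fun n n' h => by
    rw [← hΔ (n' + 1) (by omega) n (by omega), ← hΔ (n' + 1) (by omega) n' (by omega)]
    refine Finset.card_le_card fun i hi => ?_
    simp only [Finset.mem_filter, Finset.mem_univ, true_and] at hi ⊢
    omega
  obtain ⟨E, hE⟩ : ∃ E, ∀ n, E ≤ n → Δ n = Δ E := by
    obtain ⟨E, hE⟩ : ∃ E, ∀ n, Δ E ≤ Δ n := ⟨Function.argmin Δ, fun n => Function.argmin_le Δ n⟩
    exact ⟨E, fun n hn => le_antisymm (hanti E n hn) (hE n)⟩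
  obtain ⟨c, hc⟩ := Ideal.exists_pow_inf_eq_pow_smul (maximalIdeal R) (M := R) (RingHom.ker π)
  -- a large level
  let N := E + c + 2
  have hN : 1 ≤ N := by omega
  have hcN : c + 1 ≤ p ^ N := le_trans (by omega : c + 1 ≤ N) (Nat.lt_pow_self hp.out.one_lt).le
  haveI := hne N hN
  set eN := e N hN with heN
  set ψN := ψ N hN with hψN
  have hfin : ∀ i, E < eN i → N ≤ eN i := fun i hi => by
    have h1 := hΔ N hN E (by omega)
    have h2 := hΔ N hN (N - 1) (by omega)
    rw [hE (N - 1) (by omega), ← h1] at h2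
    have hsub : (Finset.univ.filter fun i => N - 1 < eN i) ⊆ (Finset.univ.filter fun i => E < eN i) := by
      intro j hj
      simp only [Finset.mem_filter, Finset.mem_univ, true_and] at hj ⊢
      omega
    have h3 := Finset.eq_of_subset_of_card_le hsub h2.ge
    have : i ∈ Finset.univ.filter fun i => N - 1 < eN i := h3 ▸ Finset.mem_filter.mpr ⟨Finset.mem_univ _, hi⟩
    simp only [Finset.mem_filter, Finset.mem_univ, true_and] at this
    omega
  have hdim := dim_le ψN (hψ N hN) (show E < N by omega) (hψk N hN)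
  -- generators
  let φ : R →ₐ[k] S16077.Trunc p k eN := ψN.comp π
  have hφ : Function.Surjective φ := (hψ N hN).comp hπ
  choose z hz using fun i => hφ (Ideal.Quotient.mk _ (X i))
  have hzm : ∀ i, z i ∈ maximalIdeal R := fun i => lift_mem_maximal φ (hz i)
  let I := RingHom.ker π
  haveI : IsLocalHom (π : R →+* A) := IsLocalHom.of_surjective _ hπ
  have hmax : maximalIdeal A = (maximalIdeal R).map π := by
    refine le_antisymm (fun y hy => ?_) (Ideal.map_le_iff_le_comap.mpr fun x hx => map_nonunit (π : R →+* A) x hx)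
    obtain ⟨x, rfl⟩ := hπ y
    exact Ideal.mem_map_of_mem _ (fun hu => hy (hu.map π))
  have hMmap : fpow p N A = (fpow p N R).map π := by
    rw [fpow, fpow, Ideal.map_span, ← Set.image_comp]
    congr 1
    ext y
    constructor
    · rintro ⟨x, hx, rfl⟩
      obtain ⟨x', rfl⟩ := hπ x
      exact ⟨x', fun hu => hx (hu.map π), map_pow π x' _⟩
    · rintro ⟨x, hx, rfl⟩
      exact ⟨π x, map_nonunit (π : R →+* A) x hx, (map_pow π x _).symm⟩
  have hkφ : RingHom.ker φ = fpow p N R ⊔ I := by
    have : RingHom.ker φ = (fpow p N A).comap π := by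
      ext x; rw [Ideal.mem_comap, ← hψk N hN]; rfl
    rw [this, hMmap, Ideal.comap_map_of_surjective _ hπ, ← RingHom.ker_eq_comap_bot]
  have hMle : fpow p N R ≤ maximalIdeal R ^ 2 := by
    refine Ideal.span_le.mpr ?_
    rintro _ ⟨x, hx, rfl⟩
    exact Ideal.pow_le_pow_right (le_trans hp.out.two_le (Nat.le_self_pow (by omega) p)) (Ideal.pow_mem_pow hx _)
  have hZ : maximalIdeal R = Ideal.span (Set.range z) := by
    refine le_antisymm (Submodule.le_of_le_smul_of_le_jacobson_bot (IsNoetherian.noetherian _)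
      (jacobson_eq_maximalIdeal (⊥ : Ideal R) bot_ne_top).ge fun x hx => ?_)
      (Ideal.span_le.mpr (Set.range_subset_iff.mpr hzm))
    have h1 : φ x ∈ (Ideal.span (Set.range z)).map φ := by
      rw [Ideal.map_span, ← Set.range_comp, show φ ∘ z = fun i => Ideal.Quotient.mk _ (X i) from funext hz]
      exact map_mem_vars φ hφ hx
    obtain ⟨b, hb, hbx⟩ := (Ideal.mem_map_iff_of_surjective φ hφ).mp h1
    have h2 : x - b ∈ RingHom.ker φ := by rw [RingHom.mem_ker, map_sub, hbx, sub_self]
    rw [hkφ] at h2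
    have h3 : x - b ∈ maximalIdeal R • maximalIdeal R := by
      rw [smul_eq_mul, ← pow_two]; exact (sup_le hMle hker) h2
    simpa using Submodule.add_mem_sup hb h3
  -- the kernel on the truncation
  let K' := Ideal.span (Set.range fun i => z i ^ p ^ eN i) ⊔ fpow p N R
  have hK'φ : K' ≤ RingHom.ker φ := by
    refine sup_le (Ideal.span_le.mpr ?_) (hkφ ▸ le_sup_left)
    rintro _ ⟨i, rfl⟩
    show φ (z i ^ p ^ eN i) = 0
    rw [map_pow, hz, mk_X_pow]
  let θ : MvPolynomial (Fin (r N hN)) k →ₐ[k] R := MvPolynomial.aeval z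
  have hθφ : ∀ f, φ (θ f) = Ideal.Quotient.mk _ f := fun f => by
    have : φ.comp θ = Ideal.Quotient.mkₐ k _ := MvPolynomial.algHom_ext fun i => by simp [θ, hz]
    exact DFunLike.congr_fun this f
  have hdec : ∀ x : R, ∀ j, ∃ f, x - θ f ∈ maximalIdeal R ^ j := by
    have h0 : ∀ x : R, ∃ c : k, x - algebraMap k R c ∈ maximalIdeal R := fun x => by
      obtain ⟨f, hf⟩ := Ideal.Quotient.mk_surjective (φ x)
      refine ⟨constantCoeff f, ?_⟩
      have h1 : x - θ f ∈ maximalIdeal R :=
        IsLocalRing.le_maximalIdeal (RingHom.ker_ne_top φ.toRingHom) (RingHom.mem_ker.mpr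
          (show φ (x - θ f) = 0 by rw [map_sub, hθφ, hf, sub_self]))
      have h2 : θ (f - C (constantCoeff f)) ∈ maximalIdeal R := by
        have h := Ideal.mem_map_of_mem θ (sub_C_mem f)
        rw [Ideal.map_span, ← Set.range_comp] at h
        refine (Ideal.span_le.mpr ?_) h
        rintro _ ⟨i, rfl⟩
        simp [θ, hzm i]
      have h3 := add_mem h1 h2
      rw [map_sub θ, ← MvPolynomial.algebraMap_eq, AlgHom.commutes] at h3
      simpa using h3
    have hstep : ∀ j, ∀ x ∈ maximalIdeal R ^ j, ∃ f, x - θ f ∈ maximalIdeal R ^ (j + 1) := by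
      intro j
      induction j with
      | zero =>
        intro x _
        obtain ⟨c, hc⟩ := h0 x
        exact ⟨MvPolynomial.C c, by simpa [θ] using hc⟩
      | succ j ih =>
        intro x hx
        rw [pow_succ'] at hx
        induction hx using Submodule.mul_induction_on' with
        | mem_mul_mem a ha b hb =>
          obtain ⟨f, hf⟩ := ih b hb
          have ha' : a ∈ Ideal.span (Set.range z) := hZ ▸ ha
          obtain ⟨co, hco⟩ := Ideal.mem_span_range_iff_exists_fun.mp ha'
          choose cc hcc using fun i => h0 (co i)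
          refine ⟨(∑ i, MvPolynomial.C (cc i) * X i) * f, ?_⟩
          have e1 : a * b - θ ((∑ i, MvPolynomial.C (cc i) * X i) * f) =
              a * (b - θ f) + (∑ i, (co i - algebraMap k R (cc i)) * z i) * θ f := by
            have h5 : θ (∑ i, MvPolynomial.C (cc i) * X i) = ∑ i, algebraMap k R (cc i) * z i := by
              simp [θ, map_sum]
            rw [map_mul, h5, ← hco]
            simp only [sub_mul, Finset.sum_sub_distrib]
            ring
          rw [e1]
          have hd : (∑ i, (co i - algebraMap k R (cc i)) * z i) ∈ maximalIdeal R ^ 2 :=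
            sum_mem fun i _ => by rw [pow_two]; exact Ideal.mul_mem_mul (hcc i) (hzm i)
          have hθf : θ f ∈ maximalIdeal R ^ j := by
            have := sub_mem hb (Ideal.pow_le_pow_right (Nat.le_succ j) hf)
            simpa using this
          refine add_mem ?_ ?_
          · rw [pow_succ']; exact Ideal.mul_mem_mul ha hf
          · rw [show j + 1 + 1 = 2 + j by omega, pow_add]; exact Ideal.mul_mem_mul hd hθf
        | add a _ b _ ha hb =>
          obtain ⟨f, hf⟩ := ha
          obtain ⟨g, hg⟩ := hb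
          exact ⟨f + g, by rw [map_add, add_sub_add_comm]; exact add_mem hf hg⟩
    intro x j
    induction j with
    | zero => exact ⟨0, by simp⟩
    | succ j ih =>
      obtain ⟨f, hf⟩ := ih
      obtain ⟨g, hg⟩ := hstep j _ hf
      exact ⟨f + g, by rw [map_add, ← sub_sub]; exact hg⟩
  obtain ⟨K, hK⟩ : ∃ K, maximalIdeal R ^ K ≤ K' := by
    refine Ideal.exists_pow_le_of_le_radical_of_fg ?_ (IsNoetherian.noetherian _)
    rw [hZ, Ideal.span_le]
    rintro _ ⟨i, rfl⟩
    exact ⟨p ^ eN i, Submodule.mem_sup_left (Ideal.subset_span ⟨i, rfl⟩)⟩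
  have hkerK : RingHom.ker φ ≤ K' := fun a ha => by
    obtain ⟨f, hf⟩ := hdec a K
    have h1 : φ (θ f) = 0 := by
      have h2 : φ (a - θ f) = 0 := hK'φ (hK hf)
      have h3 : φ a = 0 := ha
      rw [map_sub, h3, zero_sub, neg_eq_zero] at h2
      exact h2
    rw [hθφ, Ideal.Quotient.eq_zero_iff_mem] at h1
    have h4 : θ f ∈ K' := by
      have h := Ideal.mem_map_of_mem θ h1
      rw [Ideal.map_span, ← Set.range_comp] at h
      refine (Ideal.span_le.mpr ?_) h
      rintro _ ⟨i, rfl⟩
      exact Submodule.mem_sup_left (Ideal.subset_span ⟨i, by simp [θ]⟩)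
    simpa using add_mem (hK hf) h4
  -- the generators of the kernel
  let S := Finset.univ.filter fun i => ¬ E < eN i
  have hKS : K' ≤ Ideal.span ((fun i => z i ^ p ^ eN i) '' (S : Set (Fin (r N hN)))) ⊔ fpow p N R := by
    refine sup_le (Ideal.span_le.mpr ?_) le_sup_right
    rintro _ ⟨i, rfl⟩
    by_cases hi : E < eN i
    · exact Submodule.mem_sup_right (fpow_mono (hfin i hi) (Ideal.subset_span ⟨z i, hzm i, rfl⟩))
    · exact Submodule.mem_sup_left (Ideal.subset_span ⟨i, Finset.mem_filter.mpr ⟨Finset.mem_univ _, hi⟩, rfl⟩)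
  have hg : ∀ i, ∃ g ∈ I, z i ^ p ^ eN i - g ∈ fpow p N R := fun i => by
    have h : z i ^ p ^ eN i ∈ fpow p N R ⊔ I := hkφ ▸ hK'φ (Submodule.mem_sup_left (Ideal.subset_span ⟨i, rfl⟩))
    obtain ⟨m, hm, g, hg, hmg⟩ := Submodule.mem_sup.mp h
    exact ⟨g, hg, by rw [← hmg, add_sub_cancel_right]; exact hm⟩
  choose g hgI hgM using hg
  let rs : List R := S.toList.map g
  have hrs : Ideal.ofList rs = Ideal.span (g '' (S : Set (Fin (r N hN)))) := by
    rw [Ideal.ofList]
    congr 1
    ext y
    simp [rs]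
  have hI : I ≤ Ideal.ofList rs ⊔ maximalIdeal R • I := fun a ha => by
    have h1 : a ∈ Ideal.ofList rs ⊔ fpow p N R := by
      refine (sup_le (Ideal.span_le.mpr ?_) le_sup_right : _ ≤ Ideal.ofList rs ⊔ fpow p N R)
        (hKS (hkerK (show a ∈ RingHom.ker φ by rw [hkφ]; exact Submodule.mem_sup_right ha)))
      rintro _ ⟨i, hi, rfl⟩
      show z i ^ p ^ eN i ∈ _
      rw [← sub_add_cancel (z i ^ p ^ eN i) (g i), add_comm]
      exact Submodule.add_mem_sup (hrs ▸ Ideal.subset_span ⟨i, hi, rfl⟩) (hgM i)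
    obtain ⟨u, hu, v, hv, huv⟩ := Submodule.mem_sup.mp h1
    have huI : u ∈ I := by
      refine (Ideal.span_le.mpr ?_ : Ideal.ofList rs ≤ I) hu
      intro y hy
      obtain ⟨i, -, rfl⟩ := List.mem_map.mp hy
      exact hgI i
    have hvI : v ∈ I := by
      have := sub_mem ha huI
      rwa [← huv, add_sub_cancel_left] at this
    have hv2 : v ∈ maximalIdeal R ^ p ^ N := by
      refine (Ideal.span_le.mpr ?_ : fpow p N R ≤ _) hv
      rintro _ ⟨x, hx, rfl⟩
      exact Ideal.pow_mem_pow hx _
    have hv3 : v ∈ maximalIdeal R • I := by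
      have h := hc (p ^ N) (by omega)
      rw [smul_eq_mul, Ideal.mul_top] at h
      have h' : v ∈ maximalIdeal R ^ (p ^ N - c) • (maximalIdeal R ^ c • ⊤ ⊓ I) := h ▸ ⟨hv2, hvI⟩
      exact Submodule.smul_mono (Ideal.pow_le_self (by omega)) inf_le_right h'
    rw [← huv]
    exact Submodule.add_mem_sup hu hv3
  have hIeq : I = Ideal.ofList rs := by
    refine le_antisymm (Submodule.le_of_le_smul_of_le_jacobson_bot (IsNoetherian.noetherian _)
      (jacobson_eq_maximalIdeal (⊥ : Ideal R) bot_ne_top).ge hI) (Ideal.span_le.mpr ?_)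
    intro y hy
    obtain ⟨i, -, rfl⟩ := List.mem_map.mp hy
    exact hgI i
  refine ⟨rs, hIeq, le_antisymm ?_ ?_⟩
  · have hsub : (rs.toFinset : Set R) ⊆ Ring.jacobson R := by
      rw [IsLocalRing.ringJacobson_eq_maximalIdeal]
      intro y hy
      obtain ⟨i, -, rfl⟩ := List.mem_map.mp (List.mem_toFinset.mp hy)
      exact IsLocalRing.le_maximalIdeal (RingHom.ker_ne_top _) (hgI i)
    refine le_trans (ringKrullDim_le_ringKrullDim_quotient_add_card rs.toFinset hsub) ?_
    have he' : Ideal.span (rs.toFinset : Set R) = RingHom.ker π.toRingHom := by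
      rw [show RingHom.ker π.toRingHom = I from rfl, hIeq, Ideal.ofList]
      congr 1
      ext y; simp
    rw [SyntLib.ringKrullDim_eq_quotient π.toRingHom hπ he'.symm]
    gcongr
    exact_mod_cast List.toFinset_card_le rs
  · have hD : r N hN ≤ (maximalIdeal R).spanFinrank := le_spanFinrank φ hφ (he N hN)
    have hlen : (Finset.univ.filter fun i => E < eN i).card + rs.length = r N hN := by
      simp only [rs, List.length_map, Finset.length_toList, S]
      rw [Finset.card_filter_add_card_filter_not, Finset.card_univ, Fintype.card_fin]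
    calc ringKrullDim A + (rs.length : WithBot ℕ∞)
        ≤ ((Finset.univ.filter fun i => E < eN i).card : WithBot ℕ∞) + (rs.length : WithBot ℕ∞) := by gcongr
      _ = (r N hN : WithBot ℕ∞) := by exact_mod_cast hlen
      _ ≤ ((maximalIdeal R).spanFinrank : WithBot ℕ∞) := by exact_mod_cast hD
      _ = ringKrullDim R := IsRegularLocalRing.spanFinrank_maximalIdeal

end Groth.Agent.GrpCI
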