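import Groth.Agent.GrpCI.Core
import Groth.Agent.FinHopf.GrpScheme
import Groth.Agent.GrpField.SchImg
import Groth.Agent.GrpBasic.Cartier
import Groth.Agent.AdjRep.ChartNoeth
import Groth.Agent.S7949

/-!
# The Frobenius neighbourhoods of the unit are spectra of Hopf algebras
-/

set_option autoImplicit false
set_option linter.style.haveILetI false
universe u

open CategoryTheory CategoryTheory.Limits MonoidalCategory CartesianMonoidalCategory MonObj GrpObj
open AlgebraicGeometry TensorProduct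

set_option backward.isDefEq.respectTransparency false

namespace Groth.Agent.GrpCI

/-- A tensor square of a local algebra with `q`-nilpotent maximal ideal and rational residue field. -/
theorem tensor_nil {k : Type u} [Field k] {p : ℕ} [hp : Fact p.Prime] [CharP k p] {B : Type u} [CommRing B]
    [IsLocalRing B] [Algebra k B] (aug : B →ₐ[k] k) {N : ℕ} (hB : ∀ x ∈ IsLocalRing.maximalIdeal B, x ^ p ^ N = 0) :
    ∃ _ : IsLocalRing (B ⊗[k] B), ∀ x ∈ IsLocalRing.maximalIdeal (B ⊗[k] B), x ^ p ^ N = 0 := by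
  let M : Ideal (B ⊗[k] B) := Ideal.span
    ((fun b => b ⊗ₜ[k] (1 : B)) '' (IsLocalRing.maximalIdeal B : Set B) ∪
      (fun b => (1 : B) ⊗ₜ[k] b) '' (IsLocalRing.maximalIdeal B : Set B))
  haveI : Nontrivial (B ⊗[k] B) :=
    ((Algebra.TensorProduct.productMap aug aug).toRingHom).domain_nontrivial
  haveI : CharP (B ⊗[k] B) p := charP_of_injective_algebraMap (algebraMap k (B ⊗[k] B)).injective p
  have haug : ∀ b : B, b - algebraMap k B (aug b) ∈ IsLocalRing.maximalIdeal B := fun b =>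
    IsLocalRing.le_maximalIdeal (RingHom.ker_ne_top aug.toRingHom)
      (show aug (b - algebraMap k B (aug b)) = 0 by simp)
  have hdec : ∀ t : B ⊗[k] B, ∃ c : k, t - algebraMap k (B ⊗[k] B) c ∈ M := by
    intro t
    induction t with
    | zero => exact ⟨0, by simp⟩
    | tmul a b =>
      refine ⟨aug a * aug b, ?_⟩
      have e1 : a ⊗ₜ[k] b - algebraMap k (B ⊗[k] B) (aug a * aug b) =
          ((a - algebraMap k B (aug a)) ⊗ₜ[k] (1 : B)) * ((1 : B) ⊗ₜ[k] b) +
            algebraMap k (B ⊗[k] B) (aug a) * ((1 : B) ⊗ₜ[k] (b - algebraMap k B (aug b))) := by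
        have e2 : (algebraMap k B (aug a)) ⊗ₜ[k] (algebraMap k B (aug b)) =
            (algebraMap k B (aug a) * algebraMap k B (aug b)) ⊗ₜ[k] (1 : B) := by
          rw [Algebra.algebraMap_eq_smul_one (aug b), tmul_smul, mul_smul_comm, _root_.mul_one, smul_tmul']
        rw [sub_tmul, tmul_sub, mul_sub, sub_mul, map_mul, Algebra.TensorProduct.algebraMap_apply,
          Algebra.TensorProduct.algebraMap_apply]
        simp only [Algebra.TensorProduct.tmul_mul_tmul, _root_.mul_one, _root_.one_mul, e2]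
        abel
      rw [e1]
      exact add_mem (Ideal.mul_mem_right _ _ (Ideal.subset_span (Or.inl ⟨_, haug a, rfl⟩)))
        (Ideal.mul_mem_left _ _ (Ideal.subset_span (Or.inr ⟨_, haug b, rfl⟩)))
    | add x y hx hy =>
      obtain ⟨c, hc⟩ := hx
      obtain ⟨d, hd⟩ := hy
      exact ⟨c + d, by rw [map_add, add_sub_add_comm]; exact add_mem hc hd⟩
  have hM : ∀ x ∈ M, x ^ p ^ N = 0 := by
    intro x hx
    induction hx using Submodule.span_induction with
    | mem y hy =>
      rcases hy with ⟨b, hb, rfl⟩ | ⟨b, hb, rfl⟩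
      · show (b ⊗ₜ[k] (1 : B)) ^ p ^ N = 0
        rw [Algebra.TensorProduct.tmul_pow, hB b hb, zero_tmul]
      · show ((1 : B) ⊗ₜ[k] b) ^ p ^ N = 0
        rw [Algebra.TensorProduct.tmul_pow, hB b hb, tmul_zero]
    | zero => exact zero_pow (pow_pos hp.out.pos _).ne'
    | add y z _ _ hy hz => rw [add_pow_char_pow, hy, hz, add_zero]
    | smul a y _ hy => rw [smul_eq_mul, mul_pow, hy, mul_zero]
  have hdich : ∀ t : B ⊗[k] B, IsUnit t ∨ t ∈ M := fun t => by
    obtain ⟨c, hc⟩ := hdec t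
    by_cases h0 : c = 0
    · right; simpa [h0] using hc
    · left
      have hnil : IsNilpotent (t - algebraMap k (B ⊗[k] B) c) := ⟨p ^ N, hM _ hc⟩
      have := hnil.isUnit_add_left_of_commute ((Ne.isUnit h0).map (algebraMap k (B ⊗[k] B))) (Commute.all _ _)
      simpa using this
  haveI hloc : IsLocalRing (B ⊗[k] B) := by
    refine IsLocalRing.of_isUnit_or_isUnit_one_sub_self fun t => (hdich t).imp_right fun ht => ?_
    exact IsNilpotent.isUnit_one_sub ⟨p ^ N, hM t ht⟩
  exact ⟨hloc, fun x hx => hM x ((hdich x).resolve_left hx)⟩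

variable {K : Type u} [Field K] {G : Scheme.{u}} (f : G ⟶ Spec (.of K)) [GrpObj (Over.mk f)]

/-- The unit point. -/
noncomputable abbrev unitPt : G := η[Over.mk f].left (IsLocalRing.closedPoint K)

theorem isClosed_unitPt [IsAlgClosed K] [LocallyOfFiniteType f] : IsClosed ({unitPt f} : Set G) := by
  let e : Spec (.of K) ⟶ G := η[Over.mk f].left
  have he : e ≫ f = 𝟙 _ := by simpa [e] using Over.w η[Over.mk f]
  exact ((pointEquivClosedPoint f) ⟨e, he⟩).2

/-- The quotients by the Frobenius powers of the maximal ideal at the unit are truncated polynomial algebras. -/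
theorem exists_trunc [LocallyOfFiniteType f] {p : ℕ} [hp : Fact p.Prime] [CharP K p] [IsAlgClosed K]
    (ic : CommRingCat.of K ⟶ G.presheaf.stalk (unitPt f))
    (hic : Spec.map ic = G.fromSpecStalk (unitPt f) ≫ f) (N : ℕ) :
    letI := ic.hom.toAlgebra
    ∃ (r : ℕ) (e : Fin r → ℕ), (∀ i, 1 ≤ e i) ∧
      Nonempty ((G.presheaf.stalk (unitPt f) ⧸ fpow p N (G.presheaf.stalk (unitPt f))) ≃ₐ[K]
        S16077.Trunc p K e) := by
  letI := ic.hom.toAlgebra
  haveI : IsLocallyNoetherian G := LocallyOfFiniteType.isLocallyNoetherian f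
  let x₀ := unitPt f
  let O : Type u := G.presheaf.stalk x₀
  let J : Ideal O := fpow p N O
  let B : Type u := O ⧸ J
  have hJm : J ≤ IsLocalRing.maximalIdeal O := fpow_le N
  haveI : Nontrivial B := Ideal.Quotient.nontrivial_iff.2 (ne_top_of_le_ne_top (IsLocalRing.maximalIdeal.isMaximal O).ne_top hJm)
  haveI : IsLocalRing B := .of_surjective' (Ideal.Quotient.mk J) Ideal.Quotient.mk_surjective
  have hBnil : ∀ x ∈ IsLocalRing.maximalIdeal B, x ^ p ^ N = 0 := fun x hx => by
    obtain ⟨y, rfl⟩ := Ideal.Quotient.mk_surjective x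
    rw [← map_pow, Ideal.Quotient.eq_zero_iff_mem]
    exact Ideal.subset_span ⟨y, fun hu => hx (hu.map _), rfl⟩
  -- the unit section
  let G' : Over (Spec (CommRingCat.of K)) := Over.mk f
  let e₀ : Spec (.of K) ⟶ G := η[G'].left
  have heta : e₀ ≫ f = 𝟙 _ := Over.w η[G']
  obtain ⟨εc, hεc⟩ : ∃ φ : G.presheaf.stalk x₀ ⟶ CommRingCat.of K, Spec.map φ ≫ G.fromSpecStalk x₀ = e₀ :=
    Cartier.exists_Spec_map_fromSpecStalk (A := CommRingCat.of K) e₀ rfl
  have hεi : ic ≫ εc = 𝟙 _ := Spec.map_injective (by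
    rw [Spec.map_comp, hic, reassoc_of% hεc, heta, Spec.map_id])
  let εO : O →ₐ[K] K := { εc.hom with commutes' := fun c => congr(($hεi).hom c) }
  have hεsurj : Function.Surjective εO := fun c => ⟨algebraMap K O c, εO.commutes c⟩
  have hεm : RingHom.ker εO = IsLocalRing.maximalIdeal O :=
    IsLocalRing.eq_maximalIdeal (RingHom.ker_isMaximal_of_surjective εO hεsurj)
  have hεJ : ∀ a ∈ J, εO a = 0 := fun a ha =>
    RingHom.mem_ker.mp (show a ∈ RingHom.ker εO from hεm ▸ hJm ha)
  let aug : B →ₐ[K] K := Ideal.Quotient.liftₐ J εO hεJ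
  haveI hfin : Module.Finite K B := by
    haveI : IsNoetherianRing O := inferInstanceAs (IsNoetherianRing (G.presheaf.stalk x₀))
    obtain ⟨n, hn⟩ : ∃ n, IsLocalRing.maximalIdeal O ^ n ≤ J :=
      Ideal.exists_pow_le_of_le_radical_of_fg (fun x hx => ⟨p ^ N, Ideal.subset_span ⟨x, hx, rfl⟩⟩)
        (IsNoetherian.noetherian _)
    haveI := AdjRep.finite_quotient_pow εO n
    have hle : RingHom.ker εO ^ (n + 1) ≤ J := by
      rw [hεm]; exact (Ideal.pow_le_pow_right n.le_succ).trans hn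
    exact Module.Finite.of_surjective (Ideal.Quotient.factorₐ K hle).toLinearMap
      (Ideal.Quotient.factor_surjective hle)
  -- the infinitesimal neighbourhood
  let H : Over (Spec (CommRingCat.of K)) := Over.mk (Spec.map (CommRingCat.ofHom (algebraMap K B)))
  let mkc : G.presheaf.stalk x₀ ⟶ CommRingCat.of B := CommRingCat.ofHom (Ideal.Quotient.mk J)
  let iH : H ⟶ G' := Over.homMk (Spec.map mkc ≫ G.fromSpecStalk x₀) (by
    show (Spec.map mkc ≫ G.fromSpecStalk x₀) ≫ f = Spec.map (CommRingCat.ofHom (algebraMap K B))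
    rw [Category.assoc, ← hic, ← Spec.map_comp]
    rfl)
  haveI : IsClosedImmersion (Spec.map mkc) :=
    IsClosedImmersion.spec_of_surjective mkc Ideal.Quotient.mk_surjective
  haveI : IsPreimmersion (Spec.map mkc ≫ G.fromSpecStalk x₀) := inferInstance
  have hpts : ∀ (R : CommRingCat.{u}) [IsLocalRing R], (∀ x ∈ IsLocalRing.maximalIdeal R, IsNilpotent x) →
      ∀ y : PrimeSpectrum R, y = IsLocalRing.closedPoint R := fun R _ hR y =>
    PrimeSpectrum.ext (le_antisymm (IsLocalRing.le_maximalIdeal y.isPrime.ne_top) fun x hx => by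
      obtain ⟨n, hn⟩ := hR x hx
      exact y.isPrime.mem_of_pow_mem n (hn ▸ zero_mem _))
  haveI : IsClosedImmersion iH.left := by
    show IsClosedImmersion (Spec.map mkc ≫ G.fromSpecStalk x₀)
    refine IsClosedImmersion.of_isPreimmersion _ ?_
    have : Set.range (Spec.map mkc ≫ G.fromSpecStalk x₀) = {x₀} := by
      haveI : IsLocalHom mkc.hom := IsLocalHom.of_surjective _ Ideal.Quotient.mk_surjective
      have hc : G.fromSpecStalk x₀ (Spec.map mkc (IsLocalRing.closedPoint (CommRingCat.of B) :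
          Spec (CommRingCat.of B))) = x₀ :=
        (congrArg (G.fromSpecStalk x₀) (IsLocalRing.comap_closedPoint mkc.hom)).trans Scheme.fromSpecStalk_closedPoint
      refine Set.eq_singleton_iff_unique_mem.mpr ⟨⟨IsLocalRing.closedPoint B, hc⟩, ?_⟩
      rintro _ ⟨y, rfl⟩
      rw [hpts (CommRingCat.of B) (fun x hx => ⟨p ^ N, hBnil x hx⟩) y]
      exact hc
    rw [this]
    exact isClosed_unitPt f
  -- morphisms through the neighbourhood
  have hlift : ∀ (T : Over (Spec (CommRingCat.of K))) (R : CommRingCat.{u}) [IsLocalRing R] (j : Spec R ≅ T.left)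
      (_ : ∀ x ∈ IsLocalRing.maximalIdeal R, x ^ p ^ N = 0) (g : T ⟶ G') (σ : 𝟙_ _ ⟶ T) (_ : σ ≫ g = η[G']),
      ∃ l : T ⟶ H, l ≫ iH = g := by
    intro T R _ j hR g σ hσ
    have hy : (j.hom ≫ g.left) (IsLocalRing.closedPoint R) = x₀ := by
      let pt := (σ.left ≫ j.inv) (IsLocalRing.closedPoint K)
      have : pt = IsLocalRing.closedPoint R := hpts R (fun x hx => ⟨p ^ N, hR x hx⟩) pt
      rw [← this, ← Scheme.Hom.comp_apply, Category.assoc, Iso.inv_hom_id_assoc, ← Over.comp_left, hσ]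
    obtain ⟨φ, hφ⟩ : ∃ φ : G.presheaf.stalk x₀ ⟶ R, Spec.map φ ≫ G.fromSpecStalk x₀ = j.hom ≫ g.left :=
      Cartier.exists_Spec_map_fromSpecStalk (j.hom ≫ g.left) hy
    have hloc : Spec.map φ (IsLocalRing.closedPoint R) = IsLocalRing.closedPoint O :=
      (G.fromSpecStalk x₀).isEmbedding.injective ((congrArg
        (fun m : Spec R ⟶ G => m (IsLocalRing.closedPoint R)) hφ).trans
          (hy.trans Scheme.fromSpecStalk_closedPoint.symm))
    have hφJ : ∀ a ∈ J, φ.hom a = 0 := by
      have hsub : J ≤ RingHom.ker φ.hom := by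
        refine Ideal.span_le.mpr ?_
        rintro _ ⟨x, hx, rfl⟩
        show φ.hom (x ^ p ^ N) = 0
        rw [map_pow]
        refine hR _ ?_
        have h1 := congrArg PrimeSpectrum.asIdeal hloc
        exact (show x ∈ Ideal.comap φ.hom (IsLocalRing.maximalIdeal R) from (SetLike.ext_iff.mp h1 x).mpr hx)
      exact fun a ha => hsub ha
    let ψ : CommRingCat.of B ⟶ R := CommRingCat.ofHom (Ideal.Quotient.lift J φ.hom hφJ)
    have hψ : mkc ≫ ψ = φ := by ext a; rfl
    have key : (j.inv ≫ Spec.map ψ) ≫ (Spec.map mkc ≫ G.fromSpecStalk x₀) = g.left := by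
      rw [Category.assoc, ← Spec.map_comp_assoc, hψ, hφ, Iso.inv_hom_id_assoc]
    refine ⟨Over.homMk (j.inv ≫ Spec.map ψ) ?_, ?_⟩
    · have h2 : iH.left ≫ f = H.hom := Over.w iH
      rw [← h2]
      show (j.inv ≫ Spec.map ψ) ≫ (Spec.map mkc ≫ G.fromSpecStalk x₀) ≫ f = T.hom
      rw [← Category.assoc, key]
      exact Over.w g
    · ext1; exact key
  haveI : Mono iH := by
    refine ⟨fun {Z} a b hab => Over.OverMorphism.ext ?_⟩
    rw [← cancel_mono iH.left, ← Over.comp_left, hab, Over.comp_left]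
  obtain ⟨eH, heH⟩ := hlift (𝟙_ _) (CommRingCat.of K) (Iso.refl _)
    (fun x hx => by
      rw [IsLocalRing.maximalIdeal_eq_bot, Ideal.mem_bot] at hx
      rw [hx, zero_pow (pow_pos hp.out.pos _).ne']) η[G'] (𝟙 _) (Category.id_comp _)
  obtain ⟨hloc2, hnil2⟩ := tensor_nil aug hBnil
  obtain ⟨l, hl⟩ := hlift (H ⊗ H) (CommRingCat.of (B ⊗[K] B)) (pullbackSpecIso K B B).symm hnil2
    ((fst H H ≫ iH)⁻¹ * (snd H H ≫ iH)) (lift eH eH) (by
      rw [MonObj.comp_mul, GrpObj.comp_inv, lift_fst_assoc, lift_snd_assoc, heH, inv_mul_cancel, Hom.one_def,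
        toUnit_unique (toUnit _) (𝟙 _), Category.id_comp])
  obtain ⟨hG, -⟩ := GrpField.SchImg.exists_grpObj_of_div iH ⟨eH, heH⟩ fun T a b => by
    refine ⟨lift a b ≫ l, ?_⟩
    rw [Category.assoc, hl, MonObj.comp_mul, GrpObj.comp_inv, lift_fst_assoc, lift_snd_assoc]
  haveI : IsAffine H.left := inferInstanceAs (IsAffine (Spec (CommRingCat.of B)))
  obtain ⟨A', iA, e, -⟩ := FinHopf.exists_hopf H
  haveI : IsIso e.hom.left := inferInstanceAs (IsIso ((Over.forget _).map e.hom))
  let ψ : CommRingCat.of B ⟶ A' := Spec.preimage e.hom.left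
  have hψ : Spec.map ψ = e.hom.left := Spec.map_preimage _
  haveI : IsIso (Spec.map ψ) := hψ ▸ inferInstance
  haveI : IsIso ψ := by
    haveI : IsIso (Scheme.Spec.map ψ.op) := inferInstanceAs (IsIso (Spec.map ψ))
    haveI := isIso_of_reflects_iso ψ.op Scheme.Spec
    exact isIso_of_op ψ
  have hψc : CommRingCat.ofHom (algebraMap K B) ≫ ψ = CommRingCat.ofHom (algebraMap K A') := Spec.map_injective (by
    rw [Spec.map_comp, hψ]
    exact Over.w e.hom)
  let eB : B ≃ₐ[K] A' := AlgEquiv.ofRingEquiv (f := (asIso ψ).commRingCatIsoToRingEquiv) fun c => congr(($hψc).hom c)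
  haveI : Module.Finite K A' := Module.Finite.equiv eB.toLinearEquiv
  haveI : IsLocalRing A' := eB.toRingEquiv.isLocalRing
  obtain ⟨r, ee, hee, ⟨φ⟩⟩ := Groth.Agent.S7949.result K A' p
  exact ⟨r, ee, hee, ⟨eB.trans φ⟩⟩

end Groth.Agent.GrpCI
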